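import Mathlib

/-! Multiplicative polynomial functions on matrices are powers of the determinant. -/

universe u

namespace DetPowLib

open Polynomial in
lemma eq_pow_of_mul {F : Type u} [Field F] [Infinite F] (q : F[X]) (h1 : q.eval 1 = 1)
    (h : ∀ s t, q.eval (s * t) = q.eval s * q.eval t) : ∀ t, q.eval t = t ^ q.natDegree := by
  intro t
  have hq : q ≠ 0 := fun h0 => by simp [h0] at h1
  have hp : Polynomial.C (q.eval t) * q = q.comp (Polynomial.C t * Polynomial.X) := by
    refine Polynomial.funext fun s => ?_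
    simp [h t s]
  have := congrArg (fun p : F[X] => p.coeff q.natDegree) hp
  simp only [Polynomial.coeff_C_mul, Polynomial.comp_C_mul_X_coeff] at this
  rw [mul_comm _ (t ^ q.natDegree)] at this
  exact mul_right_cancel₀ (Polynomial.leadingCoeff_ne_zero.2 hq) this

lemma eq_one_of_add {F : Type u} [Field F] [Infinite F] (p : Polynomial F) (h1 : p.eval 0 = 1)
    (h : ∀ s t, p.eval (s + t) = p.eval s * p.eval t) : ∀ t, p.eval t = 1 := by
  have hu : IsUnit p := IsUnit.of_mul_eq_one (p.comp (-Polynomial.X)) (Polynomial.funext fun s => by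
    rw [Polynomial.eval_mul, Polynomial.eval_comp, Polynomial.eval_neg, Polynomial.eval_X, ← h,
      add_neg_cancel, h1, Polynomial.eval_one])
  obtain ⟨r, -, rfl⟩ := Polynomial.isUnit_iff.1 hu
  intro t
  simpa using h1

variable {F : Type u} [Field F] [Infinite F] {n : ℕ}

omit [Infinite F] in
lemma exists_poly (N : MvPolynomial (Fin n × Fin n) F)
    (e : Fin n × Fin n → Polynomial F) :
    ∃ p : Polynomial F, ∀ t, p.eval t = MvPolynomial.eval (fun ij => (e ij).eval t) N := by
  refine ⟨MvPolynomial.aeval e N, fun t => ?_⟩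
  rw [← Polynomial.coe_aeval_eq_eval, ← AlgHom.comp_apply, MvPolynomial.comp_aeval]
  rfl

theorem main (N : MvPolynomial (Fin n × Fin n) F) (hN : N ≠ 0)
    (f : Matrix (Fin n) (Fin n) F → F)
    (hf : f = fun x => MvPolynomial.eval (fun ij : Fin n × Fin n => x ij.1 ij.2) N)
    (hmul : ∀ x y, f (x * y) = f x * f y) :
    ∃ m : ℕ, ∀ x, f x = x.det ^ m := by
  classical
  have h1 : f 1 = 1 := by
    obtain ⟨v, hv⟩ : ∃ v, MvPolynomial.eval v N ≠ 0 := by
      by_contra h
      push Not at h
      exact hN (MvPolynomial.funext fun v => by simp [h v])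
    have hx : f (Matrix.of fun i j => v (i, j)) ≠ 0 := by rw [hf]; exact hv
    have := hmul (Matrix.of fun i j => v (i, j)) 1
    rw [mul_one] at this
    exact mul_left_cancel₀ hx (this.symm.trans (mul_one _).symm)
  have htr : ∀ i j : Fin n, i ≠ j → ∀ c, f (Matrix.transvection i j c) = 1 := by
    intro i j hij
    obtain ⟨p, hp⟩ := exists_poly N fun ab =>
      (if ab.1 = ab.2 then (1 : Polynomial F) else 0) + if i = ab.1 ∧ j = ab.2 then Polynomial.X else 0
    have hp' : ∀ t, p.eval t = f (Matrix.transvection i j t) := fun t => by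
      rw [hp, hf]
      refine congrArg (fun v => MvPolynomial.eval v N) (funext fun ab => ?_)
      simp only [Polynomial.eval_add, Matrix.transvection, Matrix.add_apply, Matrix.one_apply,
        Matrix.single_apply]
      split_ifs <;> simp
    intro c
    rw [← hp']
    refine eq_one_of_add p ?_ (fun s t => ?_) c
    · rw [hp', Matrix.transvection_zero, h1]
    · rw [hp', hp', hp', ← hmul, Matrix.transvection_mul_transvection_same i j hij]
  let g : (Fin n → F) →* F :=
    { toFun := fun d => f (Matrix.diagonal d)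
      map_one' := by rw [← h1]; exact congrArg f Matrix.diagonal_one
      map_mul' := fun a b => by rw [← hmul, Matrix.diagonal_mul_diagonal]; rfl }
  have hdeg : ∀ i : Fin n, ∃ m : ℕ, ∀ t, g (Pi.mulSingle i t) = t ^ m := by
    intro i
    obtain ⟨q, hq⟩ := exists_poly N fun ab =>
      if ab.1 = ab.2 then (if ab.1 = i then Polynomial.X else 1) else 0
    have hq' : ∀ t, q.eval t = g (Pi.mulSingle i t) := fun t => by
      show _ = f _
      rw [hq, hf]
      refine congrArg (fun v => MvPolynomial.eval v N) (funext fun ab => ?_)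
      simp only [Matrix.diagonal_apply, Pi.mulSingle_apply]
      split_ifs <;> simp
    refine ⟨q.natDegree, fun t => ?_⟩
    rw [← hq']
    refine eq_pow_of_mul q ?_ (fun s t => ?_) t
    · rw [hq', Pi.mulSingle_one, map_one]
    · rw [hq', hq', hq', Pi.mulSingle_mul, map_mul]
  choose m hm using hdeg
  have hperm : ∀ (σ : Equiv.Perm (Fin n)) (d : Fin n → F), g (d ∘ σ) = g d := by
    intro σ d
    set P : Matrix (Fin n) (Fin n) F := σ.permMatrix F with hP
    have hmm : Matrix.diagonal (d ∘ σ) * P = P * Matrix.diagonal d := by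
      ext a b
      rw [Matrix.diagonal_mul, Matrix.mul_diagonal, hP]
      by_cases h : σ a = b
      · subst h; simp [Equiv.Perm.permMatrix, mul_comm]
      · simp [Equiv.Perm.permMatrix, PEquiv.toMatrix_apply, h]
    have hne : f P ≠ 0 := by
      have hdet : IsUnit P.det := by
        rw [hP, Matrix.det_permutation]
        exact (Units.isUnit _).map (Int.castRingHom F)
      intro h0
      have := hmul P P⁻¹
      rw [Matrix.mul_nonsing_inv _ hdet, h1, h0, zero_mul] at this
      exact one_ne_zero this
    have := congrArg f hmm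
    rw [hmul, hmul, mul_comm (f P)] at this
    exact mul_right_cancel₀ hne this
  obtain ⟨m₀, hm₀⟩ : ∃ m₀, ∀ i t, g (Pi.mulSingle i t) = t ^ m₀ := by
    rcases isEmpty_or_nonempty (Fin n) with hE | ⟨⟨i₀⟩⟩
    · exact ⟨0, fun i => isEmptyElim i⟩
    refine ⟨m i₀, fun i t => ?_⟩
    rw [← hm i₀ t, ← hperm (Equiv.swap i i₀) (Pi.mulSingle i₀ t)]
    congr 1
    funext a
    simp only [Function.comp_apply, Pi.mulSingle_apply]
    have : (Equiv.swap i i₀ a = i₀) ↔ a = i := by rw [Equiv.swap_apply_eq_iff, Equiv.swap_apply_right]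
    simp only [this]
  refine ⟨m₀, fun x => ?_⟩
  apply Matrix.diagonal_transvection_induction (fun M => f M = M.det ^ m₀) x
  · intro D _
    rw [Matrix.det_diagonal, ← Finset.prod_pow]
    show g D = _
    conv_lhs => rw [← Finset.univ_prod_mulSingle D]
    rw [map_prod]
    exact Finset.prod_congr rfl fun i _ => hm₀ i (D i)
  · intro t
    rw [Matrix.TransvectionStruct.det, one_pow]
    exact htr t.i t.j t.hij t.c
  · intro A B hA hB
    rw [hmul, hA, hB, Matrix.det_mul, mul_pow]

end DetPowLib
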